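import Cfsg.Agent.SB.Fld.Singer
import Cfsg.Agent.SB.Tor.Semi

/-!
# S5765: the rows `RowLSing`, `RowUSing` (helper52)
-/

set_option autoImplicit false

namespace Cfsg.Agent.SB.Fld

open Module Cfsg.Agent.DS.Cl Cfsg.Agent.DS.Cl.Fwd Cfsg.Agent.SB.Cl
open scoped Matrix

section L

variable {n : ℕ} {K : Type} [Field K]

/-- the first component -/
noncomputable def prL (n : ℕ) (K : Type) [Field K] : LR (Fin n) K →+* End K (Fin n → K) :=
  (Matrix.toLinAlgEquiv' (n := Fin n) (R := K)).toRingEquiv.toRingHom.comp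
    (RingHom.fst (Matrix (Fin n) (Fin n) K) (Matrix (Fin n) (Fin n) K))

theorem prL_apply (a : LR (Fin n) K) : prL n K a = Matrix.toLinAlgEquiv' a.1 := rfl

theorem luL [Finite K] : LU (prL n K) (LR.mk 1 0) (LR.mk 1 0) (LR.mk 1 0) := by
  have h1 : (LR.mk 1 0 : LR (Fin n) K) ∈ Subring.center (LR (Fin n) K) := Subring.mem_center_iff.2 fun a => by
    obtain ⟨a, b, rfl⟩ := LR.exists_mk a
    rw [LR.mk_mul, LR.mk_mul, mul_one, one_mul, mul_zero, zero_mul]
  have h2 : ∀ a : LR (Fin n) K, prL n K a = 0 → LR.mk 1 0 * a = 0 := fun a ha => by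
    obtain ⟨a, b, rfl⟩ := LR.exists_mk a
    have h3 : a = 0 := (map_eq_zero_iff _ (Matrix.toLinAlgEquiv' (n := Fin n) (R := K)).injective).1 ha
    rw [LR.mk_mul, h3, mul_zero, zero_mul, LR.zero_eq]
  refine ⟨fun x => ⟨LR.mk (Matrix.toLinAlgEquiv'.symm x) 0, Matrix.toLinAlgEquiv'.apply_symm_apply x⟩, h1, LR.half, h2,
    h1, map_one (Matrix.toLinAlgEquiv' (n := Fin n) (R := K)), h2, h1, IsUnit.of_mul_eq_one (LR.mk 1 (-1)) ?_⟩
  rw [LR.star_mk, LR.mk_sub, LR.mk_mul, LR.one_eq]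
  simp

theorem fourL [Finite K] (F : FR (LR (Fin n) K)) (hA : SS (LR (Fin n) K)) (h3 : 3 ≤ n)
    (h4 : n ≤ 4 → 3 ≤ Nat.card K) {Z : Subring (LR (Fin n) K)} (hZ : ComSub Z) (hE : ∀ x ∈ Z, x.1 ≠ 0 → IsUnit x.1)
    (hc : Nat.card Z = Nat.card K ^ (2 * n)) {S : Subgroup (RingAut (LR (Fin n) K))} (hS : S ≤ F.Aut)
    (hI : Inv S Z) : Four F.S S := by
  have h := luL (n := n) (K := K)
  have hk : 2 ≤ Nat.card K := Finite.one_lt_card
  have hfin : Finite (End K (Fin n → K)) := Finite.of_surjective _ h.surj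
  let i : Fin n := ⟨0, by omega⟩
  refine h.four F hA (by simpa using h3) hZ (fun z hz h0 => (hE z hz fun h1 => h0 (by rw [prL_apply, h1, map_zero])).map
      (Matrix.toLinAlgEquiv' (n := Fin n) (R := K))) ?_
    (s := LR.mk (Matrix.single i i 1) (-Matrix.single i i 1)) ?_ (v := Pi.single i 1) (by simp)
    (f := LinearMap.proj i) (fun h0 => by simpa using LinearMap.congr_fun h0 (Pi.single i 1)) ?_ ?_ hS hI
  · have h1 : Nat.card Z ≤ Nat.card (h.img Z hZ.1) * Nat.card (h.img Z hZ.1) := by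
      rw [← Nat.card_prod]
      refine Nat.card_le_card_of_injective (fun z : Z => ((⟨_, z, z.2, rfl⟩, ⟨_, star (z : LR (Fin n) K),
        hZ.2.1 _ z.2, rfl⟩) : h.img Z hZ.1 × h.img Z hZ.1)) fun a b hab => Subtype.ext (sub_eq_zero.1 (h.sep _ ?_ ?_))
      · rw [map_sub, sub_eq_zero]
        exact Subtype.mk.inj (Prod.mk.inj hab).1
      · rw [star_sub, map_sub, sub_eq_zero]
        exact Subtype.mk.inj (Prod.mk.inj hab).2
    rw [hc, two_mul, pow_add] at h1
    rw [Nat.card_fun, Nat.card_fin]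
    exact Nat.mul_self_le_mul_self_iff.1 h1
  · rw [LR.star_mk, Matrix.transpose_neg, Matrix.transpose_single]
    exact Prod.ext rfl (neg_neg _).symm
  · refine LinearMap.ext fun w => ?_
    rw [prL_apply, Matrix.toLinAlgEquiv'_apply]
    change (Matrix.single i i (1 : K)) *ᵥ w = w i • (Pi.single i 1 : Fin n → K)
    rw [Matrix.single_mulVec, one_mul]
    funext j
    by_cases hj : j = i
    · subst hj; simp
    · simp [hj]
  · intro Q q h1 h2 h5
    have h6 : Nat.card (Subring.center (LR (Fin n) K)) ≤ Nat.card K * Nat.card K := by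
      rw [← Nat.card_prod]
      refine Nat.card_le_card_of_injective (fun a => ((h.scal_of a.2).choose, (h.scal_of (star_cen a.2)).choose))
        fun a b hab => Subtype.ext (sub_eq_zero.1 (h.sep _ ?_ ?_))
      · rw [map_sub, (h.scal_of a.2).choose_spec, (h.scal_of b.2).choose_spec, (Prod.mk.inj hab).1, sub_self]
      · rw [star_sub, map_sub, (h.scal_of (star_cen a.2)).choose_spec, (h.scal_of (star_cen b.2)).choose_spec,
          (Prod.mk.inj hab).2, sub_self]
    rw [hc, two_mul, pow_add] at h1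
    have h7 := Nat.mul_self_le_mul_self_iff.1 h1
    have h8 := Nat.mul_self_le_mul_self_iff.1 (h5.trans h6)
    set k := Nat.card K
    have h9 : k ^ 3 ≤ Q := (Nat.pow_le_pow_right (by omega) h3).trans h7
    refine ⟨by nlinarith, ?_⟩
    by_cases h10 : 3 ≤ k
    · nlinarith
    · have h11 : k ^ 5 ≤ Q := (Nat.pow_le_pow_right (by omega) (by omega)).trans h7
      obtain rfl : q = 2 := by omega
      rw [show k = 2 by omega] at h11
      omega

end L

section U

variable {K V : Type} [Field K] [Finite K] [AddCommGroup V] [Module K V] [Finite V] (h : HF K V)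

/-- the identity -/
def prU : h.EB →+* End K V := RingHom.id (End K V)

theorem star_smul_one (c : K) : star (h.eb (c • 1)) = h.eb (h.τ c • 1) := h.ap_ext fun v => h.ext_right fun u => by
  rw [h.b_star, h.ap_eb, h.ap_eb, LinearMap.smul_apply, LinearMap.smul_apply, h.smul_left, h.smul_right,
    h.τ_τ]
  rfl

theorem luU {θ : K} (hθ : h.τ θ ≠ θ) : LU (prU h) (h.eb ((θ / (θ - h.τ θ)) • 1)) 1 (h.eb (θ • 1)) := by
  have h0 : θ - h.τ θ ≠ 0 := sub_ne_zero.2 hθ.symm
  have h1 : h.τ θ - θ ≠ 0 := sub_ne_zero.2 hθ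
  refine ⟨Function.surjective_id, h.smul_mem_center _, ?_, fun a (ha : a = 0) => by rw [ha, mul_zero],
    Subring.one_mem _, rfl, fun a (ha : a = 0) => by rw [ha, mul_zero], h.smul_mem_center _,
    IsUnit.of_mul_eq_one (h.eb ((θ - h.τ θ)⁻¹ • 1)) ?_⟩
  · rw [star_smul_one]
    change (θ / (θ - h.τ θ)) • (1 : End K V) + h.τ (θ / (θ - h.τ θ)) • (1 : End K V) = 1
    rw [← add_smul, map_div₀, map_sub, h.τ_τ]
    convert one_smul K (1 : End K V) using 2
    field_simp
    ring
  · rw [star_smul_one]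
    change (θ • (1 : End K V) - h.τ θ • (1 : End K V)) * ((θ - h.τ θ)⁻¹ • (1 : End K V)) = 1
    rw [← sub_smul, smul_mul_smul_comm, mul_inv_cancel₀ h0, one_mul, one_smul]

theorem fourU (F : FR h.EB) (hU : IsU h) (h5 : 5 ≤ finrank K V) {Z : Subring h.EB} (hZ : ComSub Z)
    (hE : ∀ x ∈ Z, x ≠ 0 → IsUnit x) (hc : Nat.card Z = Nat.card K ^ finrank K V) {S : Subgroup (RingAut h.EB)}
    (hS : S ≤ F.Aut) (hI : Inv S Z) : Four F.S S := by
  obtain ⟨hε, θ, hθ⟩ := hU
  have hl := luU h hθ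
  have hfin : Finite (End K V) := Finite.of_surjective _ hl.surj
  have : Nontrivial V := Module.nontrivial_of_finrank_pos (R := K) (by omega)
  obtain ⟨v, hv⟩ := exists_ne (0 : V)
  have h0 : θ - h.τ θ ≠ 0 := sub_ne_zero.2 hθ.symm
  refine hl.four F h.ss (by omega) hZ hE ?_ (s := h.eb (((θ - h.τ θ) • h.lin v).smulRight v)) ?_ hv
    (f := (θ - h.τ θ) • h.lin v) (fun h1 => ?_) rfl ?_ hS hI
  · rw [Module.natCard_eq_pow_finrank (K := K) (V := V), ← hc]
    exact Nat.card_le_card_of_injective (fun z : Z => ⟨_, z, z.2, rfl⟩) fun a b hab => Subtype.ext (Subtype.mk.inj hab)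
  · refine h.ap_ext fun y => h.ext_right fun u => ?_
    rw [h.b_star]
    change h.b (((θ - h.τ θ) * h.b u v) • v) y = h.b u (-(((θ - h.τ θ) * h.b y v) • v))
    rw [← neg_smul, h.smul_left, h.smul_right, h.swap y v, hε, map_neg, map_mul, map_sub, h.τ_τ]
    ring
  · obtain ⟨u, hu⟩ := h.exists_ne hv
    exact mul_ne_zero h0 hu (LinearMap.congr_fun h1 u)
  · intro Q q h1 h2 h3
    have h6 : Nat.card (Subring.center h.EB) ≤ Nat.card K :=
      Nat.card_le_card_of_injective (fun a => (hl.scal_of a.2).choose) fun a b hab => Subtype.ext (by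
        have h7 := (hl.scal_of a.2).choose_spec
        rw [show (hl.scal_of a.2).choose = (hl.scal_of b.2).choose from hab, ← (hl.scal_of b.2).choose_spec] at h7
        exact h7)
    have h7 := h3.trans h6
    set k := Nat.card K
    have h8 : k ^ 5 ≤ Q * Q := (Nat.pow_le_pow_right (by nlinarith) h5).trans (hc ▸ h1)
    have h9 : 4 ≤ k := by nlinarith
    have h10 : 4 * k < Q := by
      by_contra h10
      have h11 : Q * Q ≤ 4 * k * (4 * k) := Nat.mul_self_le_mul_self (by omega)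
      have h12 : 4 ^ 3 ≤ k ^ 3 := Nat.pow_le_pow_left h9 3
      nlinarith
    exact ⟨h10.le, by nlinarith⟩

end U

theorem rowLSing : RowLSing := fun _ _ _ _ F _ _ h3 _ h4 H hZ hI hE hc =>
  Tor.good_of_four H le_rfl (fourL F H.ss h3 h4 hZ hE hc H.le hI)

theorem rowUSing : RowUSing := fun _ _ _ _ _ _ _ h F _ _ hU h5 _ H hZ hI hE hc =>
  Tor.good_of_four H le_rfl (fourU h F hU h5 hZ hE hc H.le hI)

end Cfsg.Agent.SB.Fld
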