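import Mathlib

/-!
# S5765, field extension subgroups: finite commutative rings with involution (helper52)

`R` is a finite commutative ring with involution and `ρ : R →+* E` a homomorphism to a field which is injective together
with `ρ ∘ star` (so `R` is a field or a product of two fields swapped by `star`).
-/

set_option autoImplicit false

namespace Cfsg.Agent.SB.Fld

variable {R E : Type*} [CommRing R] [StarRing R] [Field E]

/-- the symmetric elements -/
def sym (R : Type*) [CommRing R] [StarRing R] : Subring R where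
  carrier := {y | star y = y}
  mul_mem' := fun {a b} (ha : star a = a) (hb : star b = b) => by
    show star (a * b) = a * b
    rw [star_mul', ha, hb]
  one_mem' := star_one R
  add_mem' := fun {a b} (ha : star a = a) (hb : star b = b) => by
    show star (a + b) = a + b
    rw [star_add, ha, hb]
  zero_mem' := star_zero R
  neg_mem' := fun {a} (ha : star a = a) => by
    show star (-a) = -a
    rw [star_neg, ha]

theorem mem_sym {y : R} : y ∈ sym R ↔ star y = y := Iff.rfl

theorem add_star_mem (z : R) : z + star z ∈ sym R := by rw [mem_sym, star_add, star_star, add_comm]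

theorem mul_star_mem (z : R) : z * star z ∈ sym R := by rw [mem_sym, star_mul', star_star, mul_comm]

theorem card_le_sq [Finite R] {θ : R} (hθ : IsUnit (θ - star θ)) :
    Nat.card R ≤ Nat.card (sym R) * Nat.card (sym R) := by
  rw [← Nat.card_prod]
  refine Nat.card_le_card_of_injective (fun z : R => ((⟨_, add_star_mem z⟩, ⟨_, add_star_mem (z * star θ)⟩) :
    sym R × sym R)) fun a b hab => ?_
  have h1 : a + star a = b + star b := congrArg (fun x : sym R × sym R => (x.1 : R)) hab
  have h2 : a * star θ + star (a * star θ) = b * star θ + star (b * star θ) :=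
    congrArg (fun x : sym R × sym R => (x.2 : R)) hab
  rw [star_mul', star_mul', star_star] at h2
  refine hθ.mul_right_cancel ?_
  linear_combination θ * h1 - h2

theorem sq_le_card [Finite R] {θ : R} (hθ : IsUnit (θ - star θ)) (C : Subring R) (hC : θ ∈ C) :
    Nat.card ↥(C ⊓ sym R) * Nat.card ↥(C ⊓ sym R) ≤ Nat.card C := by
  rw [← Nat.card_prod]
  refine Nat.card_le_card_of_injective (fun a : ↥(C ⊓ sym R) × ↥(C ⊓ sym R) =>
    (⟨a.1 + a.2 * θ, add_mem a.1.2.1 (mul_mem a.2.2.1 hC)⟩ : C)) fun a b hab => ?_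
  have h1 : (a.1 : R) + a.2 * θ = b.1 + b.2 * θ := congrArg Subtype.val hab
  have h2 := congrArg star h1
  rw [star_add, star_add, star_mul', star_mul', mem_sym.1 a.1.2.2, mem_sym.1 a.2.2.2, mem_sym.1 b.1.2.2,
    mem_sym.1 b.2.2.2] at h2
  have h3 : (a.2 : R) = b.2 := hθ.mul_right_cancel (by linear_combination h1 - h2)
  rw [h3, add_left_inj] at h1
  exact Prod.ext (Subtype.ext h1) (Subtype.ext h3)

/-- `ρ` and `ρ ∘ star` separate the points -/
def Sep (ρ : R →+* E) : Prop := ∀ a, ρ a = 0 → ρ (star a) = 0 → a = 0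

namespace Sep

variable {ρ : R →+* E} (h : Sep ρ)
include h

theorem sym_eq_zero {y : R} (hy : y ∈ sym R) (h0 : ρ y = 0) : y = 0 := h y h0 (by rw [mem_sym.1 hy, h0])

theorem sym_inj {y z : R} (hy : y ∈ sym R) (hz : z ∈ sym R) (h0 : ρ y = ρ z) : y = z :=
  sub_eq_zero.1 (h.sym_eq_zero (sub_mem hy hz) (by rw [map_sub, h0, sub_self]))

theorem isUnit [Finite R] {y : R} (hy : y ∈ sym R) (h0 : y ≠ 0) : IsUnit y := by
  have h1 : ρ y ≠ 0 := fun h1 => h0 (h.sym_eq_zero hy h1)
  have h2 : Function.Injective fun a => y * a := by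
    intro a b (hab : y * a = y * b)
    rw [← sub_eq_zero] at hab ⊢
    rw [← mul_sub] at hab
    have h3 := congrArg star hab
    rw [star_mul', mem_sym.1 hy, star_zero] at h3
    refine h _ ((mul_eq_zero.1 ?_).resolve_left h1) ((mul_eq_zero.1 ?_).resolve_left h1)
    · rw [← map_mul, hab, map_zero]
    · rw [← map_mul, h3, map_zero]
  obtain ⟨a, ha⟩ := Finite.surjective_of_injective h2 1
  exact IsUnit.of_mul_eq_one a ha

theorem uni_inj {u v : R} (hu : u * star u = 1) (hv : v * star v = 1) (h0 : ρ u = ρ v) : u = v := by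
  rw [← sub_eq_zero]
  refine h _ (by rw [map_sub, h0, sub_self]) ?_
  have h1 := congrArg ρ hu
  have h2 := congrArg ρ hv
  rw [map_mul, map_one] at h1 h2
  rw [star_sub, map_sub]
  linear_combination (ρ (star u)) * (-h2) + ρ (star v) * h1 - ρ (star u) * ρ (star v) * h0

theorem uni_cases {u v : R} (hu : u * star u = 1) (hv : v * star v = 1) (ht : v + star v = u + star u) :
    v = u ∨ v = star u := by
  have h1 : (v - u) * (v - star u) = 0 := by linear_combination hu - hv + v * ht
  have h2 := congrArg ρ h1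
  rw [map_mul, map_zero, map_sub, map_sub] at h2
  rcases mul_eq_zero.1 h2 with h3 | h3
  · exact Or.inl (h.uni_inj hv hu (sub_eq_zero.1 h3))
  · exact Or.inr (h.uni_inj hv (by rw [star_star, mul_comm, hu]) (sub_eq_zero.1 h3))

theorem isDomain_sub (Y : Subring R) (hY : Y ≤ sym R) : IsDomain Y :=
  Function.Injective.isDomain (ρ.comp Y.subtype) fun a b hab => Subtype.ext (h.sym_inj (hY a.2) (hY b.2) hab)

theorem two_le_card [Finite R] (Y : Subring R) (hY : Y ≤ sym R) : 2 ≤ Nat.card Y := by
  have := h.isDomain_sub Y hY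
  exact Finite.one_lt_card

/-- Frobenius of a symmetric subring -/
theorem frob [Finite R] (Y : Subring R) (hY : Y ≤ sym R) :
    (∀ a b : R, (a + b) ^ Nat.card Y = a ^ Nat.card Y + b ^ Nat.card Y) ∧ ∀ y ∈ Y, y ^ Nat.card Y = y := by
  have := h.isDomain_sub Y hY
  let _ : Field Y := (Finite.isField_of_domain Y).toField
  have := Fintype.ofFinite Y
  obtain ⟨p, hp⟩ := CharP.exists Y
  obtain ⟨k, hpp, hk⟩ := FiniteField.card Y p
  have : Fact p.Prime := ⟨hpp⟩
  have : CharP R p := charP_of_injective_ringHom (f := Y.subtype) Subtype.val_injective p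
  rw [Nat.card_eq_fintype_card]
  refine ⟨fun a b => by rw [hk, add_pow_char_pow], fun y hy => ?_⟩
  exact congrArg Subtype.val (FiniteField.pow_card (⟨y, hy⟩ : Y))

theorem pow_cases [Finite R] (Y : Subring R) (hY : Y ≤ sym R) {u : R} (hu : u * star u = 1) (ht : u + star u ∈ Y) :
    ∃ m, 0 < m ∧ m ≤ Nat.card Y + 1 ∧ u ^ m = 1 := by
  obtain ⟨h1, h2⟩ := h.frob Y hY
  have h3 := h.two_le_card Y hY
  have hv : u ^ Nat.card Y * star (u ^ Nat.card Y) = 1 := by rw [star_pow, ← mul_pow, hu, one_pow]
  rcases h.uni_cases hu hv (by rw [star_pow, ← h1, h2 _ ht]) with h4 | h4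
  · refine ⟨Nat.card Y - 1, by omega, by omega, ?_⟩
    have h5 : u ^ (Nat.card Y - 1) * u = u := by rw [← pow_succ, Nat.sub_add_cancel (by omega), h4]
    rw [← mul_one (u ^ _), ← hu, ← mul_assoc, h5]
  · exact ⟨Nat.card Y + 1, by omega, le_rfl, by rw [pow_succ', h4, hu]⟩

theorem card_sq_le [Finite R] (Y : Subring R) (hY : Y ≤ sym R) {y : R} (hy : y ∈ sym R) (hy' : y ∉ Y) :
    Nat.card Y * Nat.card Y ≤ Nat.card (sym R) := by
  rw [← Nat.card_prod]
  refine Nat.card_le_card_of_injective (fun a : Y × Y => (⟨a.1 + a.2 * y, add_mem (hY a.1.2) (mul_mem (hY a.2.2) hy)⟩ :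
    sym R)) fun a b hab => ?_
  have h1 : (a.1 : R) + a.2 * y = b.1 + b.2 * y := congrArg Subtype.val hab
  by_cases h2 : a.2 = b.2
  · rw [h2, add_left_inj] at h1
    exact Prod.ext (Subtype.ext h1) h2
  exfalso
  have := h.isDomain_sub Y hY
  obtain ⟨d, hd⟩ := (Finite.isField_of_domain Y).mul_inv_cancel (sub_ne_zero.2 h2)
  have h3 : ((a.2 : R) - b.2) * d = 1 := congrArg Subtype.val hd
  refine hy' ?_
  have h4 : y = d * ((b.1 : R) - a.1) := by linear_combination d * h1 - y * h3
  rw [h4]
  exact mul_mem d.2 (sub_mem b.1.2 a.1.2)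

/-- the norm is onto -/
theorem norm_surj [Finite R] {θ : R} (hθ : IsUnit (θ - star θ)) {y : R} (hy : y ∈ sym R) : ∃ w, w * star w = y := by
  have := h.isDomain_sub (sym R) le_rfl
  let _ : Field (sym R) := (Finite.isField_of_domain (sym R)).toField
  have := Fintype.ofFinite (sym R)
  rcases Nat.mod_two_eq_zero_or_one (Fintype.card (sym R)) with h2 | h2
  · have h3 : ringChar (sym R) = 2 := FiniteField.even_card_iff_char_two.2 h2
    obtain ⟨w, hw⟩ := FiniteField.isSquare_of_char_two h3 (⟨y, hy⟩ : sym R)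
    exact ⟨w, by rw [mem_sym.1 w.2]; exact (congrArg Subtype.val hw).symm⟩
  · have h4 : star (θ - star θ) = -(θ - star θ) := by rw [star_sub, star_star, neg_sub]
    have h5 : (θ - star θ) * (θ - star θ) ∈ sym R := by rw [mem_sym, star_mul', h4, neg_mul_neg]
    have h6 : (⟨_, h5⟩ : sym R) ≠ 0 := fun h6 => by
      have h7 : (θ - star θ) * (θ - star θ) = 0 := congrArg Subtype.val h6
      have h8 := (hθ.mul hθ).map ρ
      rw [h7, map_zero] at h8
      exact not_isUnit_zero h8
    obtain ⟨a, b, hab⟩ := FiniteField.exists_root_sum_quadratic (R := sym R)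
      (f := Polynomial.X ^ 2 - Polynomial.C ⟨y, hy⟩) (g := Polynomial.C (-⟨_, h5⟩) * Polynomial.X ^ 2)
      (Polynomial.degree_X_pow_sub_C (by norm_num) _) (Polynomial.degree_C_mul_X_pow 2 (neg_ne_zero.2 h6)) h2
    simp only [Polynomial.eval_sub, Polynomial.eval_pow, Polynomial.eval_X, Polynomial.eval_C,
      Polynomial.eval_mul] at hab
    have h7 : (a : R) ^ 2 - y + -((θ - star θ) * (θ - star θ)) * (b : R) ^ 2 = 0 := congrArg Subtype.val hab
    refine ⟨a + b * (θ - star θ), ?_⟩
    rw [star_add, star_mul', mem_sym.1 a.2, mem_sym.1 b.2, h4]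
    linear_combination h7

/-- a unitary element of large order -/
theorem exists_gen [Finite R] {θ : R} (hθ : IsUnit (θ - star θ)) :
    ∃ u : R, u * star u = 1 ∧ ∀ m, 0 < m → u ^ m = 1 → Nat.card (sym R) ≤ m + 1 := by
  classical
  let f : unitary R →* E := (ρ : R →* E).comp (unitary R).subtype
  have hf : Function.Injective f := fun a b hab => Subtype.ext (h.uni_inj a.2.2 b.2.2 hab)
  have : IsCyclic (unitary R) := isCyclic_of_injective_ringHom f hf
  obtain ⟨u, hu⟩ := IsCyclic.exists_ofOrder_eq_natCard (α := unitary R)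
  refine ⟨u, u.2.2, fun m hm hum => ?_⟩
  have h1 : Nat.card (unitary R) ≤ m := by
    rw [← hu]
    exact orderOf_le_of_pow_eq_one hm (Subtype.ext hum)
  have hd : ρ θ - ρ (star θ) ≠ 0 := by
    rw [← map_sub]
    exact (hθ.map ρ).ne_zero
  have key : ∀ t : sym R, ρ (t + θ) ≠ 0 → ρ (t + star θ) ≠ 0 → ∃ v : unitary R, (v : R) * (t + star θ) = t + θ := by
    intro t h2 h3
    have h4 : star ((t : R) + θ) = t + star θ := by rw [star_add, mem_sym.1 t.2]
    have h5 := h.isUnit (mul_star_mem ((t : R) + θ)) fun h5 => by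
      have h6 := congrArg ρ h5
      rw [map_mul, h4, map_zero] at h6
      exact mul_ne_zero h2 h3 h6
    rw [h4] at h5
    obtain ⟨w, hw⟩ := (isUnit_of_mul_isUnit_right h5).exists_right_inv
    have h6 : ((t : R) + θ) * star w = 1 := by
      have h7 := congrArg star hw
      rwa [star_mul', star_one, ← h4, star_star] at h7
    have h7 : ((t : R) + θ) * w * star (((t : R) + θ) * w) = 1 := by
      rw [star_mul', h4]
      linear_combination ((t : R) + star θ) * w * h6 + hw
    exact ⟨⟨(t + θ) * w, by rw [mul_comm]; exact h7, h7⟩, by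
      show ((t : R) + θ) * w * (t + star θ) = t + θ
      linear_combination ((t : R) + θ) * hw⟩
  let g : sym R → Option (unitary R) := fun t =>
    if h2 : ρ (t + θ) = 0 then none else if h3 : ρ (t + star θ) = 0 then some 1 else some (key t h2 h3).choose
  have hg : Function.Injective g := by
    intro t t' htt
    apply Subtype.ext
    refine h.sym_inj t.2 t'.2 ?_
    simp only [g] at htt
    by_cases h2 : ρ (t + θ) = 0 <;> by_cases h2' : ρ (t' + θ) = 0
    · rw [map_add] at h2 h2'
      linear_combination h2 - h2'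
    · rw [dif_pos h2, dif_neg h2'] at htt
      split_ifs at htt
    · rw [dif_neg h2, dif_pos h2'] at htt
      split_ifs at htt
    rw [dif_neg h2, dif_neg h2'] at htt
    by_cases h3 : ρ (t + star θ) = 0 <;> by_cases h3' : ρ (t' + star θ) = 0
    · rw [map_add] at h3 h3'
      linear_combination h3 - h3'
    · rw [dif_pos h3, dif_neg h3', Option.some_inj] at htt
      have h4 := congrArg ρ (key t' h2' h3').choose_spec
      rw [← htt] at h4
      simp only [OneMemClass.coe_one, one_mul, map_add] at h4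
      exact absurd (by linear_combination -h4) hd
    · rw [dif_neg h3, dif_pos h3', Option.some_inj] at htt
      have h4 := congrArg ρ (key t h2 h3).choose_spec
      rw [htt] at h4
      simp only [OneMemClass.coe_one, one_mul, map_add] at h4
      exact absurd (by linear_combination -h4) hd
    · rw [dif_neg h3, dif_neg h3', Option.some_inj] at htt
      have h4 := congrArg ρ (key t h2 h3).choose_spec
      have h5 := congrArg ρ (key t' h2' h3').choose_spec
      rw [← htt] at h5
      simp only [map_mul, map_add] at h4 h5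
      have h6 : (ρ t - ρ t') * (ρ θ - ρ (star θ)) = 0 := by
        linear_combination (ρ t' + ρ (star θ)) * h4 - (ρ t + ρ (star θ)) * h5
      exact sub_eq_zero.1 ((mul_eq_zero.1 h6).resolve_right hd)
  have h2 := Nat.card_le_card_of_injective g hg
  rw [Finite.card_option] at h2
  omega

/-- `Aut (R, star)` acts faithfully on the unitary group modulo a small subring -/
theorem faithful [Finite R] {θ : R} (hθ : IsUnit (θ - star θ)) (C : Subring R) (hC : ∀ a ∈ C, star a ∈ C)
    (hq : (Nat.card ↥(C ⊓ sym R) + 2) ^ 2 < Nat.card (sym R)) :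
    ∃ u : R, u * star u = 1 ∧ ∀ s : R →+* R, (∀ a, s (star a) = star (s a)) → (∃ a ∈ C, s u = a * u) →
      ∀ z, s z = z := by
  obtain ⟨u, hu, hgen⟩ := h.exists_gen hθ
  refine ⟨u, hu, fun s hs ⟨a, ha, hau⟩ => ?_⟩
  have hsu : s u * star (s u) = 1 := by rw [← hs, ← map_mul, hu, map_one]
  have ha1 : a * star a = 1 := by
    rw [hau, star_mul'] at hsu
    linear_combination hsu - a * star a * hu
  obtain ⟨m, hm0, hm, ham⟩ := h.pow_cases (C ⊓ sym R) inf_le_right ha1 ⟨add_mem ha (hC a ha), add_star_mem a⟩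
  have hq2 := h.two_le_card (C ⊓ sym R) inf_le_right
  set q := Nat.card ↥(C ⊓ sym R)
  set Q := Nat.card (sym R)
  have hy : s (u ^ m) = u ^ m := by rw [map_pow, hau, mul_pow, ham, one_mul]
  let Y : Subring R := sym R ⊓ s.eqLocus (RingHom.id R)
  have hYs : ∀ y ∈ sym R, s y = y := by
    by_contra hcon
    push Not at hcon
    obtain ⟨y, hy1, hy2⟩ := hcon
    have h1 := h.card_sq_le Y inf_le_left hy1 fun h1 => hy2 h1.2
    obtain ⟨k, hk0, hk, huk⟩ := h.pow_cases Y inf_le_left (u := u ^ m) (by rw [star_pow, ← mul_pow, hu, one_pow])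
      ⟨add_star_mem _, show s _ = _ by rw [map_add, hs, hy]; rfl⟩
    have h2 := hgen (m * k) (Nat.mul_pos hm0 hk0) (by rw [pow_mul, huk])
    set P := Nat.card Y
    have h3 : m * k ≤ (q + 1) * (P + 1) := Nat.mul_le_mul hm hk
    have h4 : P ≤ q + 2 := by
      by_contra h4
      have h5 : q + 3 ≤ P := by omega
      nlinarith
    nlinarith
  have h2 : u * u ≠ 1 := fun h2 => by
    have := hgen 2 (by norm_num) (by rw [pow_two, h2])
    nlinarith
  have h3 : s u = u := by
    rcases h.uni_cases hu hsu (by rw [← hs, ← map_add, hYs _ (add_star_mem u)]) with h3 | h3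
    · exact h3
    · exfalso
      have h4 : a * (u * u) = 1 := by rw [← mul_assoc, ← hau, h3, mul_comm, hu]
      have h5 := congrArg (· ^ m) h4
      simp only [mul_pow, ham, one_mul, one_pow] at h5
      have := hgen (m + m) (by omega) (by rw [pow_add, h5])
      nlinarith
  have h4 : star (u - star u) = -(u - star u) := by rw [star_sub, star_star, neg_sub]
  have h5 := h.isUnit (y := (u - star u) * (u - star u)) (by rw [mem_sym, star_mul', h4, neg_mul_neg]) fun h5 => by
    have h6 := congrArg ρ h5
    rw [map_mul, map_zero, mul_self_eq_zero, map_sub, sub_eq_zero] at h6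
    have h7 := h.uni_inj hu (by rw [star_star, mul_comm, hu]) h6
    exact h2 (by rw [← hu, ← h7])
  intro z
  have h6 := hYs _ (add_star_mem z)
  have h7 := hYs _ (add_star_mem (z * star u))
  rw [star_mul', star_star] at h7
  simp only [map_add, map_mul, hs, h3] at h6 h7
  refine (isUnit_of_mul_isUnit_left h5).mul_right_cancel ?_
  linear_combination u * h6 - h7

end Sep

end Cfsg.Agent.SB.Fld
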