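import Cfsg.Agent.DS.Cl.ModBase
import Cfsg.Agent.DS.Cl.Blk

/-!
# S5765: linear and unitary form rings, transvections (helper52)

`LU π c η θ` : common description of the rings of the linear and the unitary groups.
-/

set_option autoImplicit false

namespace Cfsg.Agent.SB.Fld

open Module Cfsg.Agent.DS.Cl Cfsg.Agent.DS.Cl.Fwd
open scoped commutatorElement

variable {A : Type} [Ring A] [StarRing A]

omit [StarRing A] in
theorem eich_mul {c c' p q p' q' : A} (hc' : c' ∈ Subring.center A) (h1 : p * p' = 0) (h2 : p * q' = 0)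
    (h3 : q * q' = 0) : p * (p' - q' - c' * (q' * p')) = 0 ∧
      (p - q - c * (q * p)) * (p' - q' - c' * (q' * p')) = -(q * p') := by
  have h4 : p * (p' - q' - c' * (q' * p')) = 0 := by
    rw [mul_sub, mul_sub, h1, h2, ← mul_assoc, cen_comm hc', mul_assoc, ← mul_assoc p, h2]; simp
  have h5 : q * (p' - q' - c' * (q' * p')) = q * p' := by
    rw [mul_sub, mul_sub, h3, ← mul_assoc, cen_comm hc', mul_assoc, ← mul_assoc q, h3]; simp
  refine ⟨h4, ?_⟩
  rw [sub_mul, sub_mul, h4, h5, mul_assoc, mul_assoc, h4]; simp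

theorem eich_uni {c x : A} (hc : c ∈ Subring.center A) (h1 : c + star c = 1) (hx : x * x = 0) (hx' : x * star x = 0) :
    (1 + (x - star x - c * (star x * x))) * star (1 + (x - star x - c * (star x * x))) = 1 := by
  have h2 : star x * star x = 0 := by rw [← star_mul, hx, star_zero]
  have h3 : star (x - star x - c * (star x * x)) = -(x - star x - (-star c) * (star x * x)) := by
    rw [star_sub, star_sub, star_star, star_mul, star_mul, star_star, cen_comm (star_cen hc)]
    noncomm_ring
  have h4 := (eich_mul (c := c) (Subring.neg_mem _ (star_cen hc)) hx hx' h2).2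
  rw [star_add, star_one, h3, add_mul, one_mul, mul_add, mul_one, mul_neg, h4]
  have h5 : star x * x = (c + star c) * (star x * x) := by rw [h1, one_mul]
  nth_rewrite 3 [h5]
  noncomm_ring

/-- a long root element is a commutator of isometries -/
theorem eich_comm [Finite A] (F : FR A) {c x μ : A} (hc : c ∈ Subring.center A) (h1 : c + star c = 1)
    (hμ : μ ∈ Subring.center A) (hx : x * x = 0) (hx' : x * star x = 0) :
    ∃ t ∈ (⁅F.Iso, F.Iso⁆ : Subgroup Aˣ), (t : A) = 1 + (star μ - μ) * (star x * x) := by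
  have hμ' := star_cen hμ
  have e1 : star (μ * x) = star μ * star x := by rw [star_mul, cen_comm hμ']
  have h2 : star x * star x = 0 := by rw [← star_mul, hx, star_zero]
  have a1 : ∀ {d y z : A}, d ∈ Subring.center A → y * z = 0 → y * (d * z) = 0 := fun hd h0 => by
    rw [← mul_assoc, cen_comm hd, mul_assoc, h0, mul_zero]
  have a2 : ∀ {d y z : A}, y * z = 0 → d * y * z = 0 := fun h0 => by rw [mul_assoc, h0, mul_zero]
  have h3 := eich_uni hc h1 hx hx'
  have h4 := eich_uni (x := μ * x) hc h1 (a2 (a1 hμ hx)) (by rw [e1]; exact a2 (a1 hμ' hx'))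
  have hL := F.L_eq hc h1
  refine ⟨⁅mkU _ h3, mkU _ h4⁆, Subgroup.commutator_mem_commutator (mem_Iso_max hL h3) (mem_Iso_max hL h4), ?_⟩
  rw [commutatorElement_def, Units.val_mul, Units.val_mul, Units.val_mul, Units.mul_inv_eq_iff_eq_mul,
    Units.mul_inv_eq_iff_eq_mul, mkU_val, mkU_val, e1]
  obtain ⟨b1, b2⟩ := eich_mul (c := c) (q := star x) hc (a1 hμ hx) (a1 hμ' hx') (a1 hμ' h2)
  obtain ⟨b3, -⟩ := eich_mul (c := c) (q := star x) hc hx hx' h2
  obtain ⟨-, b4⟩ := eich_mul (c := c) (p := μ * x) (q := star μ * star x) hc (a2 hx) (a2 hx') (a2 h2)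
  set a := x - star x - c * (star x * x)
  set a' := μ * x - star μ * star x - c * (star μ * star x * (μ * x))
  have b5 : star x * (μ * x) = μ * (star x * x) := by rw [← mul_assoc, cen_comm hμ, mul_assoc]
  have b6 : (1 + (star μ - μ) * (star x * x)) * (1 + a') * (1 + a) =
      1 + a + a' + a' * a + (star μ - μ) * (star x * x) + (star μ - μ) * star x * (x * a') * (1 + a) +
        (star μ - μ) * star x * (x * a) := by noncomm_ring
  rw [b6, b1, b3, b4, add_mul, one_mul, mul_add, mul_one, b2, b5]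
  noncomm_ring

variable {K V : Type} [Field K] [AddCommGroup V] [Module K V]

/-- the ring of a linear or unitary group -/
structure LU (π : A →+* End K V) (c η θ : A) : Prop where
  surj : Function.Surjective π
  c_cen : c ∈ Subring.center A
  c_add : c + star c = 1
  c_ker : ∀ a, π a = 0 → c * a = 0
  η_cen : η ∈ Subring.center A
  η_one : π η = 1
  η_ker : ∀ a, π a = 0 → η * a = 0
  θ_cen : θ ∈ Subring.center A
  θ_unit : IsUnit (θ - star θ)

namespace LU

variable {π : A →+* End K V} {c η θ : A} (h : LU π c η θ)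
include h

theorem sep (a : A) (h1 : π a = 0) (h2 : π (star a) = 0) : a = 0 := by
  have h3 := congrArg star (h.c_ker _ h2)
  rw [star_mul, star_star, star_zero, cen_comm (star_cen h.c_cen)] at h3
  rw [← one_mul a, ← h.c_add, add_mul, h.c_ker a h1, h3, add_zero]

theorem sep_symm {a : A} (ha : star a = a) (h1 : π a = 0) : a = 0 := h.sep a h1 (by rw [ha, h1])

theorem exists_cen (k : K) : ∃ d ∈ Subring.center A, π d = k • 1 := by
  obtain ⟨a, ha⟩ := h.surj (k • 1)
  refine ⟨η * a, Subring.mem_center_iff.2 fun y => ?_, by rw [map_mul, h.η_one, one_mul, ha]⟩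
  have h1 := h.η_ker (y * a - a * y) (by rw [map_sub, map_mul, map_mul, ha]; simp)
  rw [mul_sub, sub_eq_zero] at h1
  rw [← mul_assoc, cen_comm h.η_cen, mul_assoc, h1, mul_assoc]

theorem cen_of {a : A} {k k' : K} (h1 : π a = k • 1) (h2 : π (star a) = k' • 1) : a ∈ Subring.center A := by
  refine Subring.mem_center_iff.2 fun y => sub_eq_zero.1 (h.sep _ ?_ ?_)
  · rw [map_sub, map_mul, map_mul, h1]; simp
  · rw [star_sub, star_mul, star_mul, map_sub, map_mul, map_mul, h2]; simp

theorem scal_of {a : A} (ha : a ∈ Subring.center A) : ∃ k : K, π a = k • 1 := by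
  have h1 : π a ∈ Subalgebra.center K (End K V) := Subalgebra.mem_center_iff.2 fun y => by
    obtain ⟨b, rfl⟩ := h.surj y
    rw [← map_mul, ← map_mul, cen_comm ha]
  rw [Algebra.IsCentral.center_eq_bot, Algebra.mem_bot] at h1
  obtain ⟨k, hk⟩ := h1
  exact ⟨k, by rw [← hk, Algebra.algebraMap_eq_smul_one]⟩

/-- transvections lie in the commutator group of the isometry group -/
theorem transv [Finite A] [Module.Finite K V] (F : FR A) (h3 : 3 ≤ finrank K V) {s : A} (hs : star s = -s) {v : V}
    (hv : v ≠ 0) {f : V →ₗ[K] K} (hf : f ≠ 0) (hfv : f v = 0) (hπ : π s = f.smulRight v) :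
    s * s = 0 ∧ ∃ t ∈ (⁅F.Iso, F.Iso⁆ : Subgroup Aˣ), (t : A) = 1 + s := by
  have hsa : ∀ w, π s w = f w • v := fun w => by rw [hπ, LinearMap.smulRight_apply]
  have hsas : ∀ a, π (s * a * s) = f (π a v) • π s := fun a => LinearMap.ext fun w => by
    rw [map_mul, map_mul, Module.End.mul_apply, Module.End.mul_apply, hsa w, map_smul, map_smul, hsa,
      LinearMap.smul_apply, hsa, smul_comm]
  have hss : s * s = 0 := h.sep_symm (by rw [star_mul, hs, neg_mul_neg]) (by
    have := hsas 1
    rwa [mul_one, map_one, Module.End.one_apply, hfv, zero_smul] at this)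
  refine ⟨hss, ?_⟩
  obtain ⟨y, hy, hy'⟩ : ∃ y, s * y * s = 0 ∧ f (π (star y * y) v) ≠ 0 := by
    by_contra hcon
    push Not at hcon
    have h1 : ∀ y, s * y * s = 0 → ∀ y', s * y' * s = 0 → f (π (star y * y') v) + f (π (star y' * y) v) = 0 := by
      intro y hy y' hy'
      have h2 := hcon (y + y') (by rw [mul_add, add_mul, hy, hy', add_zero])
      simp only [star_add, add_mul, mul_add, map_add, LinearMap.add_apply, hcon y hy, hcon y' hy', zero_add,
        add_zero] at h2
      rwa [add_comm] at h2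
    obtain ⟨k, hk⟩ := h.scal_of h.θ_cen
    obtain ⟨k', hk'⟩ := h.scal_of (star_cen h.θ_cen)
    have hkk : k - k' ≠ 0 := fun h0 => by
      have h2 := h.θ_unit.map π
      rw [map_sub, hk, hk', ← sub_smul, h0, zero_smul] at h2
      exact hv (by simpa using LinearMap.congr_fun (isUnit_zero_iff.1 h2) v |>.symm)
    have h2 : ∀ y, s * y * s = 0 → ∀ y', s * y' * s = 0 → f (π (star y * y') v) = 0 := by
      intro y hy y' hy'
      have h4 := h1 y hy y' hy'
      have h5 := h1 y hy (θ * y') (by
        rw [← mul_assoc, cen_comm h.θ_cen, mul_assoc θ, mul_assoc θ, hy', mul_zero])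
      rw [← mul_assoc, cen_comm h.θ_cen, mul_assoc, star_mul, cen_comm (star_cen h.θ_cen), mul_assoc,
        map_mul π θ, map_mul π (star θ), hk, hk'] at h5
      simp only [smul_mul_assoc, one_mul, LinearMap.smul_apply, map_smul, smul_eq_mul] at h5
      exact (mul_eq_zero.1 (by linear_combination h5 - k' * h4)).resolve_left hkk
    obtain ⟨u, hu⟩ : ∃ u, f u = 1 := by
      obtain ⟨u, hu⟩ : ∃ u, f u ≠ 0 := by
        by_contra hc
        push Not at hc
        exact hf (LinearMap.ext hc)
      exact ⟨(f u)⁻¹ • u, by rw [map_smul, smul_eq_mul, inv_mul_cancel₀ hu]⟩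
    obtain ⟨φ, hφ⟩ := Module.Projective.exists_dual_eq_one K hv
    obtain ⟨w, hw0, hw1, hw2⟩ : ∃ w, w ≠ 0 ∧ f w = 0 ∧ φ w = 0 := by
      have h1 := LinearMap.ker_ne_bot_of_finrank_lt (f := f.prod φ) (by simp; omega)
      obtain ⟨w, hw, hw0⟩ := Submodule.exists_mem_ne_zero_of_ne_bot h1
      exact ⟨w, hw0, congrArg Prod.fst (LinearMap.mem_ker.1 hw), congrArg Prod.snd (LinearMap.mem_ker.1 hw)⟩
    obtain ⟨ψ, hψ⟩ := Module.Projective.exists_dual_eq_one K hw0
    obtain ⟨a', ha'⟩ := h.surj (φ.smulRight w)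
    obtain ⟨a, ha⟩ := h.surj ((ψ - ψ v • φ).smulRight u)
    have h4 : ∀ a, f (π a v) = 0 → s * (η * a) * s = 0 := fun a h0 => by
      rw [← mul_assoc, cen_comm h.η_cen, mul_assoc η, mul_assoc η]
      exact h.η_ker _ (by rw [hsas, h0, zero_smul])
    have h5 := h4 a (by simp [ha, hφ])
    have h6 := h2 (star (η * a)) (by
      have h6 := congrArg star h5
      rwa [star_mul, star_mul, hs, star_zero, neg_mul, mul_neg, mul_neg, neg_neg, ← mul_assoc] at h6) _
      (h4 a' (by simp [ha', hφ, hw1]))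
    simp [h.η_one, ha, ha', hφ, hψ, hw2, hu] at h6
  have e1 : star (y * s) = -(s * star y) := by rw [star_mul, hs, neg_mul]
  obtain ⟨d, hd, hd'⟩ := h.exists_cen (-(f (π (star y * y) v))⁻¹)
  have e2 : star (y * s) * (y * s) = -(s * (star y * y) * s) := by rw [e1]; noncomm_ring
  have e3 := h.c_ker (d * (star (y * s) * (y * s)) - s) (by
    rw [map_sub, map_mul, hd', e2, map_neg, hsas, smul_mul_assoc, one_mul, smul_neg, neg_smul, neg_neg, smul_smul,
      inv_mul_cancel₀ hy', one_smul, sub_self])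
  rw [mul_sub, sub_eq_zero, ← mul_assoc] at e3
  have hcd := Subring.mul_mem _ h.c_cen hd
  have e4 := congrArg star e3
  rw [star_mul, star_mul, star_star, cen_comm (star_cen hcd), star_mul c s, hs, cen_comm (star_cen h.c_cen)] at e4
  obtain ⟨t, ht, ht'⟩ := eich_comm F (x := y * s) h.c_cen h.c_add (star_cen hcd)
    (by rw [mul_assoc, ← mul_assoc s, hy, mul_zero])
    (by rw [e1, mul_neg, mul_assoc, ← mul_assoc s, hss, zero_mul, mul_zero, neg_zero])
  refine ⟨t, ht, ?_⟩
  rw [ht', star_star, sub_mul, e3, e4, mul_neg, sub_neg_eq_add, ← add_mul, h.c_add, one_mul]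

end LU

end Cfsg.Agent.SB.Fld
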