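import Mathlib

/-!
# S5765, field extension subgroups: a self-centralizing subfield of `End V` (helper52)
-/

set_option autoImplicit false

namespace Cfsg.Agent.SB.Fld

open Module

variable {K V : Type*} [Field K] [AddCommGroup V] [Module K V]

/-- a self-centralizing subfield of `End V` -/
structure MaxF (E : Subalgebra K (End K V)) : Prop where
  field : IsField E
  cent : ∀ x : End K V, (∀ b ∈ E, b * x = x * b) → x ∈ E

/-- a subfield with as many elements as `V` is self-centralizing -/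
theorem maxF_of_card [Finite V] {E : Subalgebra K (End K V)} (hE : IsField E) {v : V} (hv : v ≠ 0)
    (hc : Nat.card V ≤ Nat.card E) : MaxF E := by
  refine ⟨hE, fun x hx => ?_⟩
  have h1 : Function.Injective fun a : E => (a : End K V) v := by
    intro a b (hab : (a : End K V) v = (b : End K V) v)
    by_contra h0
    obtain ⟨d, hd⟩ := hE.mul_inv_cancel (sub_ne_zero.2 h0)
    rw [hE.mul_comm] at hd
    have h2 := LinearMap.congr_fun (congrArg Subtype.val hd) v
    change (d : End K V) ((a : End K V) v - (b : End K V) v) = v at h2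
    rw [hab, sub_self, map_zero] at h2
    exact hv h2.symm
  have h2 := (h1.bijective_of_nat_card_le hc).2
  obtain ⟨a, ha⟩ := h2 (x v)
  have h3 : x = a := LinearMap.ext fun w => by
    obtain ⟨b, rfl⟩ := h2 w
    have h4 := LinearMap.congr_fun (hx b b.2) v
    have h5 := LinearMap.congr_fun (congrArg Subtype.val (hE.mul_comm a b)) v
    change (a : End K V) ((b : End K V) v) = (b : End K V) ((a : End K V) v) at h5
    change x ((b : End K V) v) = (a : End K V) ((b : End K V) v)
    rw [h5, show (a : End K V) v = x v from ha]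
    exact h4.symm
  rw [h3]
  exact a.2

namespace MaxF

variable {E : Subalgebra K (End K V)} (h : MaxF E)
include h

theorem comm {a b : End K V} (ha : a ∈ E) (hb : b ∈ E) : a * b = b * a :=
  congrArg Subtype.val (h.field.mul_comm ⟨a, ha⟩ ⟨b, hb⟩)

theorem inv {a : End K V} (ha : a ∈ E) (h0 : a ≠ 0) : ∃ b ∈ E, a * b = 1 ∧ b * a = 1 := by
  obtain ⟨b, hb⟩ := h.field.mul_inv_cancel (a := ⟨a, ha⟩) fun h1 => h0 (congrArg Subtype.val h1)
  have h1 : a * b = 1 := congrArg Subtype.val hb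
  exact ⟨b, b.2, h1, by rw [h.comm b.2 ha, h1]⟩

theorem eq_zero {a : End K V} (ha : a ∈ E) {v : V} (hv : v ≠ 0) (h0 : a v = 0) : a = 0 := by
  by_contra h1
  obtain ⟨b, -, -, h2⟩ := h.inv ha h1
  have h3 := LinearMap.congr_fun h2 v
  rw [Module.End.mul_apply, h0, map_zero] at h3
  exact hv h3.symm

theorem span {v : V} (hv : v ≠ 0) (w : V) : ∃ a ∈ E, a v = w := by
  let _ : Field E := h.field.toField
  obtain ⟨W, hW⟩ := (Submodule.span E {v}).exists_isCompl
  let p : V →ₗ[E] V := Submodule.projection _ _ hW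
  let p' : End K V :=
    { toFun := p
      map_add' := p.map_add
      map_smul' := fun c x => p.map_smul (⟨algebraMap K _ c, E.algebraMap_mem c⟩ : E) x }
  have h1 : p' ∈ E := h.cent _ fun b hb => LinearMap.ext fun x => (p.map_smul (⟨b, hb⟩ : E) x).symm
  have h2 : p' - 1 = 0 := h.eq_zero (sub_mem h1 (one_mem E)) hv (by
    rw [LinearMap.sub_apply, Module.End.one_apply, sub_eq_zero]
    exact Submodule.projection_apply_of_mem_left hW (Submodule.mem_span_singleton_self v))
  have h3 : p w = w := LinearMap.congr_fun (sub_eq_zero.1 h2) w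
  obtain ⟨a, ha⟩ := Submodule.mem_span_singleton.1 (show w ∈ Submodule.span E {v} from h3 ▸ Submodule.projection_apply_mem hW w)
  exact ⟨a, a.2, ha⟩

/-- `E ≃ V` -/
theorem exists_equiv {v : V} (hv : v ≠ 0) : ∃ e : E ≃ₗ[K] V, ∀ a, e a = (a : End K V) v := by
  let φ : E →ₗ[K] V := (LinearMap.applyₗ v).comp E.val.toLinearMap
  refine ⟨LinearEquiv.ofBijective φ ⟨(injective_iff_map_eq_zero φ).2 fun a ha => Subtype.ext (h.eq_zero a.2 hv ha),
    fun w => ?_⟩, fun _ => rfl⟩
  obtain ⟨a, ha, rfl⟩ := h.span hv w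
  exact ⟨⟨a, ha⟩, rfl⟩

theorem exists_trace [Finite K] [Module.Finite K V] {v : V} (hv : v ≠ 0) : ∃ b ∈ E, LinearMap.trace K V b ≠ 0 := by
  let _ : Field E := h.field.toField
  obtain ⟨e, he⟩ := h.exists_equiv hv
  have h1 := Algebra.trace_ne_zero K E
  by_contra hcon
  push Not at hcon
  refine h1 (LinearMap.ext fun b => ?_)
  rw [Algebra.trace_apply, ← LinearMap.trace_conj' _ e, LinearMap.zero_apply, ← hcon b b.2]
  congr 1
  refine LinearMap.ext fun w => ?_
  obtain ⟨a, rfl⟩ := e.surjective w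
  rw [LinearEquiv.conj_apply_apply, e.symm_apply_apply, he, he]
  rfl

/-- a conjugate of `a ∈ E` by a transvection normalizes `E` -/
theorem bad [Module.Finite K V] (h3 : 3 ≤ finrank K V) {v : V} (hv : v ≠ 0) {f : V →ₗ[K] K} (hf : f ≠ 0)
    (hfv : f v = 0) {a : End K V} (ha : a ∈ E)
    (hn : ∀ b ∈ E, ∃ b' ∈ E, (1 - f.smulRight v) * a * (1 + f.smulRight v) * b =
      b' * ((1 - f.smulRight v) * a * (1 + f.smulRight v))) :
    (∃ k : K, a = k • 1) ∨ ∀ b ∈ E, LinearMap.trace K V (a * b) = f (a v) * f (b v) := by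
  set s : End K V := f.smulRight v with hs
  have hsa : ∀ w, s w = f w • v := fun _ => rfl
  have hss : s * s = 0 := LinearMap.ext fun w => by
    rw [Module.End.mul_apply, hsa, hsa, map_smul, hfv, smul_zero, zero_smul, LinearMap.zero_apply]
  set y := (1 - s) * a * (1 + s) with hy
  by_cases hc : ∀ b ∈ E, b * y = y * b
  · left
    obtain ⟨w, hw0, hw1, hw2⟩ : ∃ w, w ≠ 0 ∧ f w = 0 ∧ f (a w) = 0 := by
      have h1 := LinearMap.ker_ne_bot_of_finrank_lt (f := f.prod (f.comp a)) (by simp; omega)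
      obtain ⟨w, hw, hw0⟩ := Submodule.exists_mem_ne_zero_of_ne_bot h1
      exact ⟨w, hw0, congrArg Prod.fst (LinearMap.mem_ker.1 hw), congrArg Prod.snd (LinearMap.mem_ker.1 hw)⟩
    have h1 : y - a = 0 := h.eq_zero (sub_mem (h.cent y hc) ha) hw0 (by
      simp only [hy, LinearMap.sub_apply, Module.End.mul_apply, LinearMap.add_apply, Module.End.one_apply, hsa, hw1,
        hw2, zero_smul, add_zero, sub_zero, sub_self])
    have h2 : a * s = s * a := by
      have h4 : a * s - s * a = (1 + s) * (y - a) + s * s * a * (1 + s) := by rw [hy]; noncomm_ring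
      rw [h1, hss, mul_zero, zero_mul, zero_mul, add_zero, sub_eq_zero] at h4
      exact h4
    obtain ⟨u, hu⟩ : ∃ u, f u ≠ 0 := by
      by_contra hcon
      push Not at hcon
      exact hf (LinearMap.ext hcon)
    have h4 := LinearMap.congr_fun h2 u
    rw [Module.End.mul_apply, Module.End.mul_apply, hsa, hsa, map_smul] at h4
    refine ⟨(f u)⁻¹ * f (a u), sub_eq_zero.1 (h.eq_zero (sub_mem ha (E.smul_mem (one_mem E) _)) hv ?_)⟩
    rw [LinearMap.sub_apply, LinearMap.smul_apply, Module.End.one_apply, mul_smul, ← h4, smul_smul,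
      inv_mul_cancel₀ hu, one_smul, sub_self]
  · right
    push Not at hc
    obtain ⟨b₀, hb₀, hne⟩ := hc
    obtain ⟨b₁, hb₁, h1⟩ := hn b₀ hb₀
    obtain ⟨d, hd, -, hd'⟩ := h.inv (sub_mem hb₀ hb₁) fun h0 => hne (by rw [h1, sub_eq_zero.1 h0])
    intro b hb
    have h2 : LinearMap.trace K V (b * y) = 0 := by
      have h4 : b * y = b₀ * (b * d * y) - b * d * y * b₀ := by
        rw [mul_assoc (b * d), h1, ← mul_assoc b₀, ← mul_assoc (b * d), h.comm hb₀ (mul_mem hb hd), ← sub_mul,
          ← mul_sub, mul_assoc b d, hd', mul_one]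
      rw [h4, map_sub, LinearMap.trace_mul_comm, sub_self]
    have h4 : ∀ x : End K V, LinearMap.trace K V (x * s) = f (x v) := fun x => by
      have h5 : x * s = f.smulRight (x v) := LinearMap.ext fun w => by
        rw [Module.End.mul_apply, hsa, map_smul, LinearMap.smulRight_apply]
      rw [h5, LinearMap.trace_smulRight]
    have h5 : s * a * s = f (a v) • s := LinearMap.ext fun w => by
      rw [Module.End.mul_apply, Module.End.mul_apply, hsa w, map_smul, map_smul, hsa, LinearMap.smul_apply, hsa,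
        smul_comm]
    have h6 : b * y = b * a + b * a * s - b * s * a - b * (s * a * s) := by rw [hy]; noncomm_ring
    rw [h6, h5, map_sub, map_sub, map_add, LinearMap.trace_mul_comm K (b * s), ← mul_assoc, h.comm hb ha,
      mul_smul_comm, map_smul, h4 b, smul_eq_mul] at h2
    linear_combination h2

/-- a good parameter -/
theorem exists_good [Finite K] [Module.Finite K V] {v : V} (hv : v ≠ 0) (f : V →ₗ[K] K)
    (S : AddSubgroup (End K V)) (hS : ∀ y ∈ S, y ∈ E) (h4 : 4 * Nat.card K ≤ Nat.card S) :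
    ∃ y ∈ S, y ≠ 0 ∧ f (y v) = 0 ∧
      ∀ a ∈ E, a ≠ 0 → ¬ ∀ b ∈ E, LinearMap.trace K V (a * b) = f ((a * y) v) * f ((b * y) v) := by
  by_contra hcon
  push Not at hcon
  have hV : Finite V := Module.finite_of_finite K
  have hE : Finite (End K V) := Finite.of_injective (fun x : End K V => (x : V → V)) DFunLike.coe_injective
  let φ : S →+ K :=
    { toFun := fun y => f (y.1 v)
      map_zero' := by simp
      map_add' := fun a b => by simp }
  have h1 : 4 ≤ Nat.card φ.ker := by
    have h2 := AddSubgroup.card_mul_index φ.ker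
    rw [AddSubgroup.index_ker] at h2
    have h3 : Nat.card φ.range ≤ Nat.card K := Nat.card_le_card_of_injective _ Subtype.val_injective
    have h5 : 0 < Nat.card K := Nat.card_pos
    by_contra h6
    have h7 : Nat.card φ.ker * Nat.card φ.range ≤ 3 * Nat.card K := Nat.mul_le_mul (by omega) h3
    omega
  obtain ⟨b₀, hb₀, htr⟩ := h.exists_trace hv
  have hnd : ∀ x ∈ E, (∀ b ∈ E, LinearMap.trace K V (x * b) = 0) → x = 0 := by
    intro x hx h0
    by_contra h2
    obtain ⟨d, hd, h3, -⟩ := h.inv hx h2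
    have h5 := h0 _ (mul_mem hd hb₀)
    rw [← mul_assoc, h3, one_mul] at h5
    exact htr h5
  have hk : ∀ {a y : End K V}, a ∈ E → a ≠ 0 →
      (∀ b ∈ E, LinearMap.trace K V (a * b) = f ((a * y) v) * f ((b * y) v)) → f ((a * y) v) ≠ 0 :=
    fun ha ha0 hb h0 => ha0 (hnd _ ha fun b hb' => by rw [hb b hb', h0, zero_mul])
  classical
  obtain ⟨y₁, hy₁⟩ : ∃ y : φ.ker, y ≠ 0 := by
    have : Nontrivial φ.ker := Finite.one_lt_card_iff_nontrivial.1 (by omega)
    exact exists_ne 0
  obtain ⟨y₂, hy₂⟩ : ∃ y : φ.ker, y ∉ ({0, y₁, -y₁} : Finset φ.ker) := by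
    by_contra h2
    push Not at h2
    have := Fintype.ofFinite φ.ker
    have h3 := Finset.card_le_card (fun y _ => h2 y : Finset.univ ⊆ _)
    have h5 := Finset.card_le_three (a := (0 : φ.ker)) (b := y₁) (c := -y₁)
    rw [Finset.card_univ, ← Nat.card_eq_fintype_card] at h3
    omega
  simp only [Finset.mem_insert, Finset.mem_singleton, not_or] at hy₂
  have hne : ∀ y : φ.ker, y ≠ 0 → y.1.1 ≠ 0 := fun y hy h0 => hy (Subtype.ext (Subtype.ext h0))
  obtain ⟨a₁, ha₁, ha₁0, hb₁⟩ := hcon _ y₁.1.2 (hne _ hy₁) y₁.2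
  obtain ⟨d, hd, -, hd'⟩ := h.inv (hS _ y₁.1.2) (hne _ hy₁)
  have hk₁ := hk ha₁ ha₁0 hb₁
  set k₁ := f ((a₁ * y₁.1.1) v)
  obtain ⟨l, hl, hl'⟩ : ∃ l ∈ E, ∀ b ∈ E, LinearMap.trace K V (l * b) = f (b v) := by
    refine ⟨k₁⁻¹ • (a₁ * d), E.smul_mem (mul_mem ha₁ hd) _, fun b hb => ?_⟩
    rw [smul_mul_assoc, map_smul, mul_assoc, hb₁ _ (mul_mem hd hb), h.comm hd hb, mul_assoc, hd', mul_one,
      smul_eq_mul, ← mul_assoc, inv_mul_cancel₀ hk₁, one_mul]
  have hQ : ∀ y : φ.ker, y ≠ 0 → f ((l * y.1.1 * y.1.1) v) = 1 := by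
    intro y hy
    obtain ⟨a, ha, ha0, hb⟩ := hcon _ y.1.2 (hne _ hy) y.2
    have hk' := hk ha ha0 hb
    have hyE := hS _ y.1.2
    have h2 := hnd _ (sub_mem ha (E.smul_mem (mul_mem hl hyE) (f ((a * y.1.1) v)))) fun b hb' => by
      rw [sub_mul, map_sub, hb b hb', smul_mul_assoc, map_smul, mul_assoc, hl' _ (mul_mem hyE hb'), h.comm hyE hb',
        smul_eq_mul, sub_self]
    have h3 := congrArg (fun x : End K V => f ((x * y.1.1) v)) (sub_eq_zero.1 h2)
    simp only [smul_mul_assoc, LinearMap.smul_apply, map_smul, smul_eq_mul] at h3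
    exact mul_left_cancel₀ hk' (by rw [← h3, mul_one])
  have q1 := hQ _ hy₁
  have q2 := hQ _ hy₂.1
  have q3 := hQ (y₁ + y₂) fun h0 => hy₂.2.2 (eq_neg_of_add_eq_zero_right h0)
  have q4 := hQ (y₁ - y₂) fun h0 => hy₂.2.1 (sub_eq_zero.1 h0).symm
  have hc : l * y₂.1.1 * y₁.1.1 = l * y₁.1.1 * y₂.1.1 := by
    rw [mul_assoc, mul_assoc, h.comm (hS _ y₂.1.2) (hS _ y₁.1.2)]
  simp only [AddSubgroup.coe_add, AddSubgroup.coe_sub, mul_add, add_mul, mul_sub, sub_mul, hc, LinearMap.add_apply,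
    LinearMap.sub_apply, map_add, map_sub, q1, q2] at q3 q4
  have h2 : (2 : K) = 0 := by linear_combination q3 + q4
  exact one_ne_zero (α := K) (by linear_combination -q3 + (1 + f ((l * y₁.1.1 * y₂.1.1) v)) * h2)

end MaxF

end Cfsg.Agent.SB.Fld
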