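import Cfsg.Agent.SB.Fld.Comm
import Cfsg.Agent.SB.Fld.Vec
import Cfsg.Agent.SB.Fld.LU
import Cfsg.Agent.SB.Cl.Defs

/-!
# S5765: normalizers of Singer cycles in linear and unitary groups have base size at most three (helper52)
-/

set_option autoImplicit false

namespace Cfsg.Agent.SB.Fld

open Module Cfsg.Agent.DS.Cl Cfsg.Agent.DS.Cl.Fwd Cfsg.Agent.SB.Cl

variable {A : Type} [Ring A] [StarRing A] {K V : Type} [Field K] [AddCommGroup V] [Module K V]

namespace LU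

variable {π : A →+* End K V} {c η θ : A} (h : LU π c η θ)
include h

/-- the image of `Z` -/
def img (Z : Subring A) (hZ : Subring.center A ≤ Z) : Subalgebra K (End K V) where
  carrier := π '' Z
  mul_mem' := by
    rintro _ _ ⟨a, ha, rfl⟩ ⟨b, hb, rfl⟩
    exact ⟨a * b, Z.mul_mem ha hb, map_mul π a b⟩
  add_mem' := by
    rintro _ _ ⟨a, ha, rfl⟩ ⟨b, hb, rfl⟩
    exact ⟨a + b, Z.add_mem ha hb, map_add π a b⟩
  algebraMap_mem' := fun k => by
    obtain ⟨d, hd, hd'⟩ := h.exists_cen k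
    exact ⟨d, hZ hd, by rw [hd', Algebra.algebraMap_eq_smul_one]⟩

theorem img_field [Finite A] [Nontrivial V] {Z : Subring A} (hZ : ComSub Z)
    (hE : ∀ z ∈ Z, π z ≠ 0 → IsUnit (π z)) : IsField (h.img Z hZ.1) := by
  have hfin : Finite (End K V) := Finite.of_surjective π h.surj
  refine ⟨⟨0, 1, zero_ne_one⟩, ?_, fun {a} ha => ?_⟩
  · rintro ⟨_, a, ha, rfl⟩ ⟨_, b, hb, rfl⟩
    exact Subtype.ext (show π a * π b = π b * π a by rw [← map_mul, ← map_mul, hZ.2.2 a ha b hb])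
  · have h1 : IsUnit (a : End K V) := by
      obtain ⟨_, z, hz, rfl⟩ := a
      exact hE z hz fun h0 => ha (Subtype.ext h0)
    exact Finite.surjective_of_injective (f := fun b => a * b)
      (fun b b' hb => Subtype.ext (h1.mul_left_cancel (congrArg Subtype.val hb))) 1

theorem cent {Z : Subring A} (hZ : ComSub Z) (hM : MaxF (h.img Z hZ.1)) {a : A} (ha : ∀ z ∈ Z, z * a = a * z) :
    a ∈ Z := by
  have key : ∀ a : A, (∀ z ∈ Z, z * a = a * z) → c * a ∈ Z := by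
    intro a ha
    obtain ⟨z, hz, hz'⟩ := hM.cent (π a) (by
      rintro _ ⟨z, hz, rfl⟩
      rw [← map_mul, ← map_mul, ha z hz])
    have h1 := h.c_ker (a - z) (by rw [map_sub, hz', sub_self])
    rw [mul_sub, sub_eq_zero] at h1
    rw [h1]
    exact Z.mul_mem (hZ.1 h.c_cen) hz
  have h1 := hZ.2.1 _ (key (star a) fun z hz => by
    have h2 := congrArg star (ha _ (hZ.2.1 z hz))
    rw [star_mul, star_mul, star_star] at h2
    exact h2.symm)
  rw [star_mul, star_star, cen_comm (star_cen h.c_cen)] at h1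
  have h2 := Z.add_mem (key a ha) h1
  rwa [← add_mul, h.c_add, one_mul] at h2

/-- **Singer cycles** -/
theorem four [Finite A] [Finite K] [Finite V] (F : FR A) (hA : SS A) (h3 : 3 ≤ finrank K V) {Z : Subring A}
    (hZ : ComSub Z) (hE : ∀ z ∈ Z, π z ≠ 0 → IsUnit (π z)) (hc : Nat.card V ≤ Nat.card (h.img Z hZ.1))
    {s : A} (hs : star s = -s) {v : V} (hv : v ≠ 0) {f : V →ₗ[K] K} (hf : f ≠ 0) (hπ : π s = f.smulRight v)
    (hnum : ∀ Q q : ℕ, Nat.card Z ≤ Q * Q → 2 ≤ q → q * q ≤ Nat.card (Subring.center A) →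
      4 * Nat.card K ≤ Q ∧ (q + 2) ^ 2 < Q)
    {S : Subgroup (RingAut A)} (hS : S ≤ F.Aut) (hI : Inv S Z) : Four F.S S := by
  have : Nontrivial V := ⟨⟨v, 0, hv⟩⟩
  have hfin : Finite (End K V) := Finite.of_surjective π h.surj
  have hEf := h.img_field hZ hE
  have hM := maxF_of_card hEf hv hc
  set E := h.img Z hZ.1
  let _ : Field E := hEf.toField
  set B := Blk.ofSubring Z hZ.2.1
  let _ : CommRing B.T := { (inferInstance : Ring B.T) with
    mul_comm := fun x y => B.val_inj (hZ.2.2 _ (B.val_mem x) _ (B.val_mem y)) }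
  let ρ : B.T →+* E :=
    { toFun := fun x => ⟨π (B.val x), _, B.val_mem x, rfl⟩
      map_one' := Subtype.ext (map_one π)
      map_mul' := fun x y => Subtype.ext (map_mul π _ _)
      map_zero' := Subtype.ext (map_zero π)
      map_add' := fun x y => Subtype.ext (map_add π _ _) }
  have hρ : Sep ρ := fun a h1 h2 => B.val_inj (h.sep _ (congrArg Subtype.val h1) (congrArg Subtype.val h2))
  have hθ : IsUnit (B.mk' θ (hZ.1 h.θ_cen) - star (B.mk' θ (hZ.1 h.θ_cen))) := by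
    obtain ⟨u, hu⟩ := h.θ_unit
    have h1 : (u : A) ∈ Subring.center A := hu ▸ Subring.sub_mem _ h.θ_cen (star_cen h.θ_cen)
    refine IsUnit.of_mul_eq_one (B.mk' _ (hZ.1 (inv_cen h1))) (B.val_inj ?_)
    change (θ - star θ) * ((u⁻¹ : Aˣ) : A) = 1
    rw [← hu, Units.mul_inv]
  let C : Subring B.T :=
    { carrier := {x | B.val x ∈ Subring.center A}
      mul_mem' := fun ha hb => (Subring.center A).mul_mem ha hb
      one_mem' := (Subring.center A).one_mem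
      add_mem' := fun ha hb => (Subring.center A).add_mem ha hb
      zero_mem' := (Subring.center A).zero_mem
      neg_mem' := fun {a} ha => show B.val (-a) ∈ Subring.center A by rw [map_neg]; exact neg_mem ha }
  obtain ⟨n1, n2⟩ := hnum (Nat.card (sym B.T)) (Nat.card ↥(C ⊓ sym B.T)) (card_le_sq (R := B.T) hθ)
    (hρ.two_le_card _ inf_le_right) ((sq_le_card hθ C h.θ_cen).trans (Nat.card_le_card_of_injective
      (fun x : C => (⟨B.val x, x.2⟩ : Subring.center A)) fun a b hab =>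
        Subtype.ext (B.val_inj (Subtype.mk.inj hab))))
  obtain ⟨u, hu, hfaith⟩ := hρ.faithful hθ C (fun a ha => star_cen ha) n2
  let ι : B.T →+ End K V := π.toAddMonoidHom.comp B.val
  obtain ⟨_, ⟨y, hy, rfl⟩, hy0, hyv, hgood⟩ := hM.exists_good hv f ((sym B.T).toAddSubgroup.map ι)
    (by rintro _ ⟨y, -, rfl⟩; exact ⟨_, B.val_mem y, rfl⟩)
    (n1.trans (Nat.card_le_card_of_injective (fun x : sym B.T => ⟨ι x, x, x.2, rfl⟩) fun a b hab =>
      Subtype.ext (hρ.sym_inj a.2 b.2 (Subtype.ext (Subtype.mk.inj hab)))))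
  obtain ⟨w, hw⟩ := hρ.norm_surj hθ hy
  have hwZ : B.val w ∈ Z := B.val_mem w
  set W := B.val w
  have hW : π W * π (star W) = ι y := by rw [← map_mul]; exact congrArg (fun x => π (B.val x)) hw
  have hWE : π W ∈ E := ⟨_, hwZ, rfl⟩
  have hWE' : π (star W) ∈ E := ⟨_, hZ.2.1 _ hwZ, rfl⟩
  have hf' : ∀ b ∈ E, f (π (star W) (b (π W v))) = f ((b * ι y) v) := fun b hb => by
    rw [← hW, hM.comm hWE hWE', ← mul_assoc, hM.comm hb hWE']; rfl
  have hv1 : π W v ≠ 0 := fun h0 => hy0 (by rw [← hW, hM.eq_zero hWE hv h0, zero_mul])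
  have hf1 : f.comp (π (star W)) ≠ 0 := fun h0 => by
    obtain ⟨d, -, hd, -⟩ := hM.inv hWE' fun h1 => hy0 (by rw [← hW, h1, mul_zero])
    refine hf (LinearMap.ext fun x => ?_)
    have h1 := LinearMap.congr_fun h0 (d x)
    rwa [LinearMap.comp_apply, ← Module.End.mul_apply, hd] at h1
  have hfv1 : f.comp (π (star W)) (π W v) = 0 := by
    have h1 := hf' 1 (one_mem E)
    rw [one_mul, hyv] at h1
    exact h1
  have hπ1 : π (W * s * star W) = (f.comp (π (star W))).smulRight (π W v) := LinearMap.ext fun x => by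
    rw [map_mul, map_mul, hπ]; simp
  obtain ⟨hss, t, ht, ht'⟩ := h.transv F h3 (s := W * s * star W)
    (by rw [star_mul, star_mul, star_star, hs, neg_mul, mul_neg, mul_assoc]) hv1 hf1 hfv1 hπ1
  have ht'' : ((t⁻¹ : Aˣ) : A) = 1 - W * s * star W :=
    (Units.eq_inv_of_mul_eq_one_left (by rw [ht', add_mul, one_mul, mul_sub, mul_one, hss]; abel)).symm
  have hx : cj A t ∈ F.S := ⟨t, ht, rfl⟩
  have hNS : F.Aut ⊓ Fix (Z : Set A) ≤ F.Aut ⊓ B.stab :=
    inf_le_inf_left _ (Blk.mem_stab fun γ hγ x hx => by rw [hγ x hx]; exact hx)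
  have hNn : ∀ k ∈ F.Aut ⊓ B.stab, ∀ γ ∈ F.Aut ⊓ Fix (Z : Set A), k * γ * k⁻¹ ∈ F.Aut ⊓ Fix (Z : Set A) :=
    fun k hk γ hγ => ⟨F.Aut.mul_mem (F.Aut.mul_mem hk.1 hγ.1) (F.Aut.inv_mem hk.1), fun x hx => by
      rw [ra_mul, ra_mul, hγ.2 _ (((B.stab.inv_mem hk.2) x).1 hx), ra_apply_inv]⟩
  have hxN : ∀ γ ∈ F.Aut ⊓ Fix (Z : Set A), (cj A t)⁻¹ * γ * cj A t ∈ F.Aut ⊓ B.stab → γ = 1 := by
    intro γ hγ hγ'
    obtain ⟨z, rfl⟩ := hA.sn (γ := γ) fun d hd => hγ.2 d (hZ.1 hd)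
    have hz : (z : A) ∈ Z := h.cent hZ hM fun x hx => by rw [← cj_mul_eq, hγ.2 x hx]
    rw [← map_inv, ← map_mul, ← map_mul] at hγ'
    have hz0 : π z * π (z⁻¹ : Aˣ) = 1 := by rw [← map_mul, Units.mul_inv, map_one]
    rcases hM.bad h3 hv1 hf1 hfv1 (a := π z) ⟨_, hz, rfl⟩ (by
      rintro _ ⟨b, hb, rfl⟩
      refine ⟨_, ⟨_, (hγ'.2 b).1 hb, rfl⟩, ?_⟩
      have h1 := congrArg π (cj_mul_eq (t⁻¹ * z * t) b)
      rw [cj_apply, Units.inv_mul_cancel_right] at h1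
      have h2 : π ((t⁻¹ * z * t : Aˣ) : A) = (1 - π (W * s * star W)) * π z * (1 + π (W * s * star W)) := by
        rw [Units.val_mul, Units.val_mul, ht', ht'', map_mul, map_mul, map_sub, map_add, map_one]
      rw [← hπ1, ← h2, ← map_mul, ← map_mul, cj_mul_eq]) with ⟨k, hk⟩ | h1
    · obtain ⟨k', hk'⟩ := h.scal_of (cj_SAut_cen hγ.1.1)
      have hk0 : k ≠ 0 := fun h0 => by
        rw [hk, h0, zero_smul, zero_mul] at hz0
        exact zero_ne_one hz0
      rw [map_mul, hk, mul_smul_comm, mul_one] at hk'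
      exact cj_eq_one_iff.2 (h.cen_of hk (k' := k⁻¹ * k') (by
        rw [mul_smul, ← hk', smul_smul, inv_mul_cancel₀ hk0, one_smul]))
    · refine absurd (fun b hb => ?_) (hgood (π z) ⟨_, hz, rfl⟩ fun h0 => by
        rw [h0, zero_mul] at hz0
        exact zero_ne_one hz0)
      rw [h1 b hb, ← hf' b hb, ← hf' _ ⟨_, hz, rfl⟩]
      rfl
  have hu' : B.val u * star (B.val u) = 1 := congrArg B.val hu
  have hvN : cj A (mkU _ hu') ∈ F.Aut ⊓ Fix (Z : Set A) :=
    ⟨FR.cj_mem_Aut (mem_Iso_max (F.L_eq h.c_cen h.c_add) hu'), fun x hx =>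
      cj_eq_of_mul (hZ.2.2 _ (B.val_mem u) x hx)⟩
  refine Four.mono (S' := F.Aut ⊓ B.stab) ⟨_, hx, _, FR.conj_mem_S hvN.1 hx, _, hx, fun k hk a0 a1 _ => ?_⟩
    (le_inf hS (Blk.mem_stab hI))
  have h1 := trick_key hNS hNn hxN hvN hvN hk a0 a1
  rw [conj_cj, cj_eq_iff] at h1
  obtain ⟨z, hz, hz'⟩ := h1
  have h2 := hfaith (B.res ⟨k, hk.2⟩ : B.T →+* B.T) (B.res_SAut (γ := ⟨k, hk.2⟩) hk.1.1)
    ⟨B.mk' z (hZ.1 hz), hz, B.val_inj (by
      have h2 := congrArg Units.val hz'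
      rw [um_val, Units.val_mul, mkU_val, cen_comm hz] at h2
      exact h2)⟩
  exact hxN k ⟨hk.1, fun x hx => congrArg B.val (h2 (B.mk' x hx))⟩ a0

end LU

end Cfsg.Agent.SB.Fld
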